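/-
Project TB, block TN: the involution `τ` fixes a point `y (± 1) * z`; the relations `R3`.
-/
import Cfsg.Agent.TN.NDG

set_option autoImplicit false

open Subgroup CL.TA

namespace CL.TN

variable {G : Type*} [Group G] {F : Type} [Field F] {d : ℕ} {P H Z W : Subgroup G} {t τ : G} {y : F → G} {ν : G → F}

section

variable (S : St d P H t τ y ν)
include S

theorem st_tP {u : G} (hu : u ∈ P) : t * u * t ∈ P := by simpa only [st_ti S] using S.norm t S.tH u hu

theorem st_inv2 (T : S1 (3 ^ d) P H Z W t y) {z : G} (hz : z ∈ Z) (z1 : z ≠ 1) {e : G} (he : e ∈ H)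
    (ee : e * e = 1) : e = 1 ∨ e = t := by
  have zP := ((T.mem_Z z).1 hz).1
  have ei : e⁻¹ = e := inv_eq_of_mul_eq_one_right ee
  have h1 : e⁻¹ * z * e ∈ Z := (T.mem_Z _).2 ⟨S.norm e he z zP, fun u hu => by
    have := ((T.mem_Z z).1 hz).2 _ (S.norm e⁻¹ (H.inv_mem he) u hu)
    calc _ = e⁻¹ * (e⁻¹⁻¹ * u * e⁻¹ * z) * e := by group
      _ = _ := by rw [this]; group⟩
  have c1 := ((T.mem_Z z).1 hz).2 _ (S.norm e he z zP)
  rcases T.Z_free e he _ (Z.mul_mem h1 hz) (by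
    calc _ = e⁻¹ * e⁻¹ * z * (e * e) * (e⁻¹ * z * e) := by group
      _ = _ := by rw [ee, ← mul_inv_rev, ee, inv_one, one_mul, mul_one, c1]) with h | h
  · exact .inl h
  · have h2 : e * t = 1 := (T.Z_free _ (H.mul_mem he S.tH) z hz (by
      rw [mul_inv_rev, st_ti S, show t * e⁻¹ * z * (e * t) = t * (e⁻¹ * z * e) * t by group,
        eq_inv_of_mul_eq_one_left h, T.Z_inv _ (Z.inv_mem hz), inv_inv])).resolve_right z1
    exact .inr (by rw [eq_inv_of_mul_eq_one_left h2, st_ti S])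

/-- The stabilizer in `C(t)` of a point outside `Fix t` has at most one element `≠ 1`. -/
theorem fx_un (h2 : ∀ e ∈ H, e * e = 1 → e = 1 ∨ e = t) {p j j' : G} (hp : p ∈ P) (hn : t * p * t ≠ p)
    (c1 : t * j * t = j) (c2 : t * j' * t = j') (n1 : j ≠ 1) (n2 : j' ≠ 1) (m1 : τ * p * j * p⁻¹ * τ ∈ P ⊔ H)
    (m2 : τ * p * j' * p⁻¹ * τ ∈ P ⊔ H) : j = j' := by
  have tP := st_tP S hp
  obtain ⟨A, hA, h, hh, B, hB, e⟩ := st_nf S (g := τ * (t * p * t * p⁻¹) * τ) fun hm =>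
    hn (mul_inv_eq_one.1 (S.ti _ (P.mul_mem tP (P.inv_mem hp)) hm))
  have key : ∀ j, t * j * t = j → j ≠ 1 → τ * p * j * p⁻¹ * τ ∈ P ⊔ H → τ * p * j * p⁻¹ * τ = B⁻¹ * t * B := by
    intro j c n m
    obtain ⟨k, hk, u, hu, e1⟩ := st_dec S m
    have tτ := st_tτ S
    have e2 : k * (t * u * t) * (A * τ * h * B) = A * τ * h * B * (k * u) := by
      rw [← e, ← e1]
      calc _ = t * (k * u) * t * (τ * (t * p * t * p⁻¹) * τ) := by
            rw [← mul_assoc t k, st_comm S S.tH hk]; simp only [mul_assoc]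
        _ = (t * τ) * p * j * p⁻¹ * (τ * (t * τ)) * t * p * t * p⁻¹ * τ := by rw [← e1]; simp only [mul_assoc]
        _ = τ * t * p * j * p⁻¹ * ((τ * τ) * (t * t)) * p * t * p⁻¹ * τ := by rw [tτ]; simp only [mul_assoc]
        _ = τ * t * p * (t * t) * j * t * p⁻¹ * τ := by rw [S.ττ, S.tt]; group
        _ = τ * t * p * t * (t * j * t) * p⁻¹ * τ := by simp only [mul_assoc]
        _ = τ * (t * p * t * p⁻¹) * (τ * τ) * p * j * p⁻¹ * τ := by rw [c, S.ττ]; group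
        _ = _ := by simp only [mul_assoc]
    obtain ⟨-, a2, a3⟩ := st_un S (u := k⁻¹⁻¹ * (t * u * t * A) * k⁻¹) (u' := A) (h := k⁻¹ * h) (h' := h * k)
      (v := B) (v' := k⁻¹ * B * k * u) (S.norm _ (H.inv_mem hk) _ (P.mul_mem (st_tP S hu) hA)) hA
      (H.mul_mem (H.inv_mem hk) hh) (H.mul_mem hh hk) hB (P.mul_mem (S.norm k hk B hB) hu) (by
        calc _ = k * (t * u * t) * A * (k⁻¹ * τ * k⁻¹) * h * B := by group
          _ = k * (t * u * t) * (A * τ * h * B) := by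
              rw [← S.τH k hk, show τ * k * τ * τ * (τ * k * τ) = τ * k * (τ * τ) * (τ * k * τ) by group, S.ττ,
                S.τH k hk]; group
          _ = _ := by rw [e2]; group)
    have kk : k * k = 1 := by
      rw [← st_comm S hk hh, mul_left_inj] at a2
      exact mul_eq_one_iff_eq_inv.2 a2.symm
    have e3 : k * u = B⁻¹ * k * B := by
      have c2 : u = (k⁻¹ * B * k)⁻¹ * B := eq_inv_mul_of_mul_eq a3.symm
      rw [c2]; group
    rcases h2 k hk kk with h | h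
    · refine absurd ?_ n
      rw [e3, h, mul_one, inv_mul_cancel] at e1
      calc j = p⁻¹ * τ⁻¹ * (τ * p * j * p⁻¹ * τ) * τ⁻¹ * p := by group
        _ = 1 := by rw [e1, st_τi S, mul_one, mul_assoc p⁻¹, S.ττ]; group
    · rw [e1, e3, h]
  have := (key j c1 n1 m1).trans (key j' c2 n2 m2).symm
  simpa using this

theorem st_cases (g : G) : g ∈ P ⊔ H ∨ ∃ u ∈ P, (u * τ)⁻¹ * g ∈ P ⊔ H := by
  by_cases hg : g ∈ P ⊔ H
  · exact .inl hg
  obtain ⟨b, hb, u, hu, rfl⟩ := S.surj g hg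
  exact .inr ⟨u, hu, by rwa [inv_mul_cancel_left]⟩

/-- Every point outside `Fix t` is fixed by an element `≠ 1` of `C(t)`. -/
theorem fx_ex [Finite G] {p : G} (hp : p ∈ P) (hn : t * p * t ≠ p) :
    ∃ j, t * j * t = j ∧ j ≠ 1 ∧ (p * τ)⁻¹ * (j * (p * τ)) ∈ P ⊔ H := by
  have := st_fin S
  have tτ := st_tτ S
  have ti := st_ti S
  have ty : ∀ b, t * y b * t = y b := fun b => by rw [st_ty S, mul_assoc, S.tt, mul_one]
  have th : ∀ h ∈ H, t * h * t = h := fun h hh => by rw [st_comm S S.tH hh, mul_assoc, S.tt, mul_one]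
  have tτ' : t * τ * t = τ := by rw [tτ, mul_assoc, S.tt, mul_one]
  have tm : ∀ a b : G, t * a * t = a → t * b * t = b → t * (a * b) * t = a * b := fun a b ha hb => by
    calc _ = t * a * (t * t) * b * t := by rw [S.tt]; group
      _ = (t * a * t) * (t * b * t) := by group
      _ = _ := by rw [ha, hb]
  have tinv : ∀ a : G, t * a * t = a → t * a⁻¹ * t = a⁻¹ := fun a ha => by
    conv_rhs => rw [← ha]
    simp only [mul_inv_rev, ti, mul_assoc]
  by_contra hc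
  push Not at hc
  -- the elements of `C(t)`
  let c : (F × H) ⊕ (F × H × F) → G := Sum.elim (fun x => x.2 * y x.1) fun x => y x.1 * τ * x.2.1 * y x.2.2
  have ct : ∀ x, t * c x * t = c x := by
    rintro (⟨b, h⟩ | ⟨b, h, b'⟩)
    · exact tm _ _ (th _ h.2) (ty b)
    · exact tm _ _ (tm _ _ (tm _ _ (ty b) tτ') (th _ h.2)) (ty b')
  have nf3 : ∀ (h h' : H) (b b' b'' : F), h * y b ≠ y b' * τ * h' * y b'' := fun h h' b b' b'' e => S.nb (by
    rw [show τ = (y b')⁻¹ * (h * y b) * (h' * y b'')⁻¹ by rw [e]; group]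
    exact mul_mem (mul_mem (inv_mem (mem_sup_left (st_yP S _))) (st_mem h.2 (st_yP S _)))
      (inv_mem (st_mem h'.2 (st_yP S _))))
  have ci : Function.Injective c := by
    rintro (⟨b, h⟩ | ⟨b, h, b'⟩) (⟨a, k⟩ | ⟨a, k, a'⟩) e
    · obtain ⟨e1, e2⟩ := st_un1 S h.2 k.2 (st_yP S b) (st_yP S a) e
      rw [st_yinj S e2, Subtype.ext e1]
    · exact absurd e (nf3 _ _ _ _ _)
    · exact absurd e.symm (nf3 _ _ _ _ _)
    · obtain ⟨e1, e2, e3⟩ := st_un S (st_yP S b) (st_yP S a) h.2 k.2 (st_yP S b') (st_yP S a') e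
      rw [st_yinj S e1, st_yinj S e3, Subtype.ext e2]
  have hpt : ∀ j, t * j * t = j → ∃ u ∈ P, t * u * t ≠ u ∧ (u * τ)⁻¹ * (j * (p * τ)) ∈ P ⊔ H := by
    intro j hj
    have hfix : ∀ g, t * g * t = g → g⁻¹ * (j * (p * τ)) ∉ P ⊔ H := fun g hg hm => hn (by
      refine st_pt S (st_tP S hp) hp ?_
      have h1 := mul_mem (inv_mem (mul_mem (mul_mem (mem_sup_right S.tH) hm) (mem_sup_right S.tH))) hm
      have e : t * (g⁻¹ * (j * (p * τ))) * t = g⁻¹ * (j * (t * p * t * τ)) := by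
        calc _ = t * g⁻¹ * (t * t) * j * (t * t) * p * (t * t) * τ * t := by rw [S.tt]; group
          _ = (t * g⁻¹ * t) * (t * j * t) * (t * p * t) * (t * τ * t) := by group
          _ = _ := by rw [tinv g hg, hj, tτ']; group
      rw [e] at h1
      simpa [mul_assoc] using h1)
    rcases st_cases S (j * (p * τ)) with h | ⟨u, hu, h⟩
    · exact absurd (by simpa using h) (hfix 1 (by rw [mul_one, S.tt]))
    · exact ⟨u, hu, fun e => hfix _ (tm _ _ e tτ') h, h⟩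
  choose! U U1 U2 U3 using hpt
  let Φ : ((F × H) ⊕ (F × H × F)) ⊕ F → P :=
    Sum.elim (fun x => ⟨U (c x), U1 _ (ct x)⟩) fun b => ⟨y b, st_yP S b⟩
  have Φi : Function.Injective Φ := by
    rintro (x | b) (x' | b') e
    · have e1 : U (c x) = U (c x') := congrArg Subtype.val e
      have h1 := mul_mem (inv_mem (U3 _ (ct x'))) (U3 _ (ct x))
      rw [e1] at h1
      by_contra hne
      refine hc ((c x')⁻¹ * c x) (tm _ _ (tinv _ (ct x')) (ct x))
        (fun h => hne (by rw [ci (inv_mul_eq_one.1 h)])) (by simpa [mul_assoc] using h1)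
    · exact absurd (by have e1 : U (c x) = y b' := congrArg Subtype.val e; rw [e1, ty]) (U2 _ (ct x))
    · exact absurd (by have e1 : y b = U (c x') := congrArg Subtype.val e; rw [← e1, ty]) (U2 _ (ct x'))
    · rw [st_yinj S (congrArg Subtype.val e)]
  have Φs : Function.Surjective Φ := ((Nat.bijective_iff_injective_and_card Φ).2 ⟨Φi, by
    simp only [Nat.card_sum, Nat.card_prod, S.card, S.cardP]
    rw [← S.cardH]; ring⟩).2
  obtain ⟨g, hg⟩ := S.conj t τ S.tt S.t1 S.ττ (fun e => S.nb (e ▸ one_mem _))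
  have hg' : g⁻¹ * (τ * g) ∈ P ⊔ H := by
    rw [← hg]; simpa [mul_assoc] using mem_sup_right (S := P) S.tH
  rcases st_cases S g with h | ⟨u, hu, h⟩
  · exact S.nb (by simpa [mul_assoc] using mul_mem (mul_mem h hg') (inv_mem h))
  have h1 : (u * τ)⁻¹ * (τ * (u * τ)) ∈ P ⊔ H := by
    simpa [mul_assoc] using mul_mem (mul_mem h hg') (inv_mem h)
  obtain ⟨x | b, e⟩ := Φs ⟨u, hu⟩
  · have e1 : U (c x) = u := congrArg Subtype.val e
    have h2 := U3 _ (ct x)
    rw [e1] at h2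
    refine hc ((c x)⁻¹ * (τ * c x)) (tm _ _ (tinv _ (ct x)) (tm _ _ tτ' (ct x)))
      (fun e => S.nb (by rw [inv_mul_eq_one, right_eq_mul] at e; exact e ▸ one_mem _)) ?_
    simpa [mul_assoc] using mul_mem (mul_mem (inv_mem h2) h1) h2
  · obtain rfl : y b = u := congrArg Subtype.val e
    by_cases hb : b = 0
    · rw [hb, st_y0 S, one_mul, S.ττ, mul_one, st_τi S] at h1
      exact S.nb h1
    obtain ⟨k, hk, -, e2⟩ := S.Y b hb
    have kk := H.mul_mem hk hk
    rw [← mul_assoc τ, e2, mul_assoc (y _) (k * k), show k * k * τ = τ * (k * k)⁻¹ by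
      rw [← S.τH _ kk, ← mul_assoc, ← mul_assoc, S.ττ, one_mul]] at h1
    have h2 := st_yinj S (st_pt S (st_yP S b) (st_yP S (-b⁻¹)) (by
      simpa [mul_assoc] using mul_mem h1 (inv_mem (st_mem (H.inv_mem kk) (st_yP S (-b⁻¹))))))
    exact st_nsq S ⟨b, by field_simp at h2; linear_combination -h2⟩

theorem z_ne (T : S1 (3 ^ d) P H Z W t y) {z : G} (hz : z ∈ Z) (z1 : z ≠ 1) (s : F) :
    t * (y s * z) * t ≠ y s * z := fun e => z1 (by
  rw [← mul_assoc, st_ty S, mul_assoc, mul_assoc, ← mul_assoc t, T.Z_inv z hz, mul_right_inj] at e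
  rw [← T.Z_cube z hz, pow_succ, sq, mul_eq_one_iff_eq_inv.2 e.symm, one_mul])

theorem z_cj (T : S1 (3 ^ d) P H Z W t y) {z h : G} (hz : z ∈ Z) (hh : h ∈ H) : h⁻¹ * z * h ∈ Z :=
  (T.mem_Z _).2 ⟨S.norm h hh z ((T.mem_Z z).1 hz).1, fun u hu => by
    have := ((T.mem_Z z).1 hz).2 _ (S.norm h⁻¹ (H.inv_mem hh) u hu)
    calc _ = h⁻¹ * (h⁻¹⁻¹ * u * h⁻¹ * z) * h := by group
      _ = _ := by rw [this]; group⟩

/-- `τ` or `τ t` fixes a point of `Y Z ∖ Y`. -/
theorem fix_pt [Finite G] (T : S1 (3 ^ d) P H Z W t y) : ∃ e, (e = 1 ∨ e = t) ∧ ∃ b, ∃ z ∈ Z, z ≠ 1 ∧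
    τ * (y b * z) * (τ * e) * (y b * z)⁻¹ * τ ∈ P ⊔ H := by
  have ti := st_ti S
  have τi := st_τi S
  obtain ⟨z, hz, z1⟩ : ∃ z ∈ Z, z ≠ 1 := (Subgroup.nontrivial_iff_exists_ne_one Z).1
    (Finite.one_lt_card_iff_nontrivial.1 (by
      rw [T.cardZ]; exact Nat.one_lt_pow (by have := S.three; omega) (by norm_num)))
  have h2 := fun e he ee => st_inv2 S T hz z1 (e := e) he ee
  have zP := ((T.mem_Z z).1 hz).1
  have hn : t * z * t ≠ z := by simpa [st_y0 S] using z_ne S T hz z1 0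
  obtain ⟨j, c1, j1, m1⟩ := fx_ex S zP hn
  have jj : j = j⁻¹ := fx_un S h2 (P.inv_mem zP) (p := z⁻¹)
    (by simpa [st_y0 S] using z_ne S T (Z.inv_mem hz) (inv_ne_one.2 z1) 0) c1
    (by conv_rhs => rw [← c1]
        simp only [mul_inv_rev, ti, mul_assoc]) j1 (inv_ne_one.2 j1)
    (by simpa [τi, mul_assoc] using m1) (by simpa [τi, mul_assoc] using inv_mem m1)
  have jB : j ∉ P ⊔ H := fun hj => j1 (by
    obtain ⟨h, hh, u, hu, rfl⟩ := st_dec S hj
    obtain ⟨b, rfl⟩ := (S.y_mem u).1 ⟨hu, by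
      rw [← mul_assoc, st_comm S S.tH hh, mul_assoc, mul_assoc, mul_right_inj, ← mul_assoc] at c1
      rw [← c1, ← mul_assoc, ← mul_assoc, S.tt, one_mul, c1]⟩
    have e := st_pt S zP (S.norm _ (H.inv_mem hh) _ (P.mul_mem hu zP)) (by
      have := mul_mem m1 (mem_sup_right (S := P) hh)
      rwa [show (z * τ)⁻¹ * (h * y b * (z * τ)) * h = (z * τ)⁻¹ * (h⁻¹⁻¹ * (y b * z) * (τ * h * τ) * τ) by
        simp only [mul_assoc, inv_inv, S.ττ, mul_one], S.τH h hh] at this)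
    have e' : h⁻¹ * z * h = y b * z := by
      conv_lhs => rw [e]
      group
    have hb : b = 0 := T.yZ b (by simpa [e'] using Z.mul_mem (z_cj S T hz hh) (Z.inv_mem hz))
    rw [hb, st_y0 S, one_mul] at e'
    rw [hb, st_y0 S, (T.Z_free h hh z hz e').resolve_right z1, mul_one])
  obtain ⟨u, hu, h, hh, v, hv, rfl⟩ := st_nf S jB
  obtain ⟨-, -, e1⟩ := st_un S (st_tP S hu) hu hh hh (st_tP S hv) hv (by
    rw [← c1]
    calc _ = t * u * (t * τ * h * t) * v * t := by simp only [mul_assoc]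
      _ = _ := by
        rw [st_tτ S, mul_assoc τ, st_comm S S.tH hh, mul_assoc τ, mul_assoc h, S.tt, mul_one]; simp only [mul_assoc])
  obtain ⟨e2, -, -⟩ := st_un S hu (P.inv_mem hv) hh hh hv (P.inv_mem hu) (by
    rw [jj]
    simp only [mul_inv_rev, τi, mul_assoc]
    rw [← S.τH h hh, mul_assoc, mul_assoc, ← mul_assoc τ τ, S.ττ, one_mul])
  obtain ⟨b, rfl⟩ := (S.y_mem v).1 ⟨hv, by rw [← e1, ← mul_assoc, ← mul_assoc, S.tt, one_mul, e1]⟩
  obtain ⟨m, hm⟩ : ∃ m, Nat.card H + 2 = 4 * m := by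
    obtain ⟨n, hn⟩ := S.odd
    have h1 := S.cardH
    have h4 : 3 ^ d % 4 = 3 := by rw [hn, pow_succ, pow_mul, Nat.mul_mod, Nat.pow_mod]; norm_num
    exact ⟨(Nat.card H + 2) / 4, by omega⟩
  have h4 : h ^ (4 * m) = h ^ 2 := by
    have := congrArg Subtype.val (pow_card_eq_one' (x := (⟨h, hh⟩ : H)))
    rw [← hm, pow_add, show h ^ Nat.card H = 1 from this, one_mul]
  have kH : h ^ m ∈ H := H.pow_mem hh m
  have he := h2 (h * (h ^ m * h ^ m)⁻¹) (H.mul_mem hh (H.inv_mem (H.mul_mem kH kH))) (by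
    calc _ = h ^ 2 * (h ^ (4 * m))⁻¹ := by group
      _ = 1 := by rw [h4, mul_inv_cancel])
  have hc : h ^ m * h = h * h ^ m := by group
  generalize h ^ m = k at *
  refine ⟨_, he, ν k⁻¹ * (-b), k⁻¹⁻¹ * z⁻¹ * k⁻¹, z_cj S T (Z.inv_mem hz) (H.inv_mem kH),
    fun e => z1 (by rwa [inv_inv, conj_eq_one_iff, inv_eq_one] at e), ?_⟩
  have h5 := mul_mem (mul_mem (mem_sup_right (S := P) (H.inv_mem kH)) m1) (mem_sup_right (S := P) kH)
  rw [← S.ν_cj _ (H.inv_mem kH), st_yneg S]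
  convert h5 using 1
  have zc := ((T.mem_Z z).1 hz).2 _ hv
  have k1 : τ * k = k⁻¹ * τ := by rw [← S.τH k kH, mul_assoc _ τ τ, S.ττ, mul_one]
  have k2 : k⁻¹ * τ = τ * k := k1.symm
  calc _ = (τ * k) * (z * y b)⁻¹ * (k⁻¹ * τ) * h * k⁻¹ * (z * y b) * (k⁻¹ * τ) := by group
    _ = k⁻¹ * τ * (y b * z)⁻¹ * τ * (k * h) * k⁻¹ * (y b * z) * (τ * k) := by
        rw [← zc, k2]; simp only [mul_assoc]
    _ = _ := by rw [hc, e2, mul_inv_rev z, τi]; group

theorem fix_iff {e A K B : _} (he : e = 1 ∨ e = t) (R : Br P H (τ * e) A K B) {p p' : G} (hp : p ∈ P) (p1 : p ≠ 1)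
    (hp' : p' ∈ P) : τ * p * (τ * e) * p'⁻¹ * τ ∈ P ⊔ H ↔ B p = p' := by
  have eH : e ∈ H := he.elim (fun h => h ▸ H.one_mem) fun h => h ▸ S.tH
  obtain ⟨m1, m2, m3, e1⟩ := R.ex p hp p1
  have eτ : τ * e = e⁻¹ * τ := by rw [← S.τH e eH, mul_assoc _ τ τ, S.ττ, mul_one]
  have e2 : τ * p * (τ * e) * p'⁻¹ * τ = (e * A p) * (τ * (e * K p) * τ) * (τ * (B p * p'⁻¹) * τ) := by
    calc _ = e * (e⁻¹ * τ * p * (τ * e)) * p'⁻¹ * τ := by group
      _ = e * A p * τ * (e * K p) * (τ * τ) * (B p * p'⁻¹) * τ := by rw [← eτ, e1, S.ττ]; group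
      _ = _ := by simp only [mul_assoc]
  rw [e2, S.τH _ (H.mul_mem eH m2),
    mul_mem_cancel_left (mul_mem (st_mem eH m1) (mem_sup_right (H.inv_mem (H.mul_mem eH m2))))]
  refine ⟨fun h => mul_inv_eq_one.1 (S.ti _ (P.mul_mem m3 (P.inv_mem hp')) h), fun h => ?_⟩
  rw [h, mul_inv_cancel, mul_one, S.ττ]
  exact one_mem _

/-- `B (y s * z) ∈ W` only for the fixed point. -/
theorem B_notMem (T : S1 (3 ^ d) P H Z W t y) {e A K B : _} (he : e = 1 ∨ e = t) (R : Br P H (τ * e) A K B) {b : F}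
    {z : G} (hz : z ∈ Z) (z1 : z ≠ 1) (hb : B (y b * z) = y b * z) {s : F} (hs : B (y s * z) ∈ W) : s = b := by
  have ti := st_ti S
  have eH : e ∈ H := he.elim (fun h => h ▸ H.one_mem) fun h => h ▸ S.tH
  have zP := ((T.mem_Z z).1 hz).1
  have pP : ∀ c, y c * z ∈ P := fun c => P.mul_mem (st_yP S c) zP
  have p1 : ∀ c, y c * z ≠ 1 := fun c h => z_ne S T hz z1 c (by rw [h, mul_one, S.tt])
  have ty : ∀ b, t * y b * t = y b := fun b => by rw [st_ty S, mul_assoc, S.tt, mul_one]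
  have th : ∀ h ∈ H, t * h * t = h := fun h hh => by rw [st_comm S S.tH hh, mul_assoc, S.tt, mul_one]
  have tτ' : t * τ * t = τ := by rw [st_tτ S, mul_assoc, S.tt, mul_one]
  have tm : ∀ a b : G, t * a * t = a → t * b * t = b → t * (a * b) * t = a * b := fun a b ha hb => by
    calc _ = t * a * (t * t) * b * t := by rw [S.tt]; group
      _ = (t * a * t) * (t * b * t) := by group
      _ = _ := by rw [ha, hb]
  have tW := tm _ _ tτ' (th e eH)
  obtain ⟨c, z', hz', e1⟩ := (T.mem_W _).1 hs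
  have m1 := (fix_iff S he R (pP s) (p1 s) (R.ex _ (pP s) (p1 s)).2.2.1).2 rfl
  have z1' : z' ≠ 1 := fun h => z_ne S T hz z1 s (by
    have h1 := (R.cj (pP s) (p1 s) S.tH).2.2
    rw [ti, e1, h, mul_one, ty] at h1
    have m2 := (fix_iff S he R (st_tP S (pP s)) (fun h => p1 s (by
        rwa [show t * (y s * z) * t = t * (y s * z) * t⁻¹ by rw [ti], conj_eq_one_iff] at h))
      (st_yP S c)).2 h1
    rw [e1, h, mul_one] at m1
    exact mul_inv_eq_one.1 (S.ti _ (P.mul_mem (st_tP S (pP s)) (P.inv_mem (pP s)))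
      (by
        have := mul_mem m2 (inv_mem m1)
        rwa [show ∀ a b w c : G, τ * a * w * c * τ * (τ * b * w * c * τ)⁻¹ = τ * (a * b⁻¹) * τ⁻¹ by
          intros; group, st_τi S] at this)))
  obtain ⟨h, hh, e2⟩ := T.Z_reg z hz z' hz' z1 z1'
  have e3 := S.ν_cj _ (H.inv_mem hh) c
  have nW : ∀ u ∈ P, ∀ k ∈ H, ∀ v ∈ P, u * (τ * e) * k * v ≠ 1 := fun u hu k hk v hv h => S.nb (by
    rw [show τ = u⁻¹ * (u * (τ * e) * k * v) * (e * k * v)⁻¹ by group, h, mul_one]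
    exact mul_mem (inv_mem (mem_sup_left hu)) (inv_mem (st_mem (H.mul_mem eH hk) hv)))
  have zc := ((T.mem_Z z).1 hz).2
  have key := fx_un S (fun e he ee => st_inv2 S T hz z1 he ee) (pP s) (z_ne S T hz z1 s)
    (j := 1 * (τ * e) * h⁻¹ * y (s - ν h⁻¹ * c)) (j' := y (b - s) * (τ * e) * 1 * y (s - b))
    (by rw [one_mul]; exact tm _ _ (tm _ _ tW (th _ (H.inv_mem hh))) (ty _))
    (by rw [mul_one]; exact tm _ _ (tm _ _ (ty _) tW) (ty _))
    (nW _ P.one_mem _ (H.inv_mem hh) _ (st_yP S _)) (nW _ (st_yP S _) _ H.one_mem _ (st_yP S _))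
    (by
      have h1 := mul_mem m1 (mem_sup_right (S := P) hh)
      convert h1 using 1
      have k1 : h⁻¹ * τ = τ * h := by rw [← S.τH h hh, mul_assoc _ τ τ, S.ττ, mul_one]
      rw [e1, ← e2, sub_eq_add_neg, add_comm, S.y_add, st_yneg S, ← e3, zc _ (st_yP S s), mul_assoc _ τ h, ← k1]
      have := zc _ (S.norm _ (H.inv_mem hh) _ (st_yP S c))
      calc _ = τ * (z * y s) * (τ * e) * h⁻¹ * (z * (h⁻¹⁻¹ * y c * h⁻¹))⁻¹ * τ := by group
        _ = _ := by rw [← this]; group)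
    (by
      have h1 := (fix_iff S he R (pP b) (p1 b) (pP b)).2 hb
      convert h1 using 1
      rw [← neg_sub b s, st_yneg S, show y b = y s * y (b - s) by rw [← S.y_add, add_sub_cancel], mul_assoc (y s) _ z,
        zc _ (st_yP S (b - s))]
      group)
  have := (R.un _ P.one_mem _ (st_yP S _) _ (H.inv_mem hh) _ H.one_mem _ (st_yP S _) _ (st_yP S _) key).1
  exact (sub_eq_zero.1 (S.y_inj _ this.symm)).symm

/-- The replacement for the steps REAL7, PSI, INV, C7, R3. -/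
theorem r3 [Finite G] (T : S1 (3 ^ d) P H Z W t y) {a : G → F} {hh : Fˣ →* G} (C : Fc P W H a hh) :
    ∃ ε : F, (ε = 1 ∨ ε = -1) ∧ ∃ z ∈ Z, ∃ f ∈ P, f ∉ W ∧ R3 t τ (y ε) z f := by
  have h3 := st_three S
  have ti := st_ti S
  obtain ⟨e, he, b, z, hz, z1, hfix⟩ := fix_pt S T
  obtain ⟨A, K, B, R⟩ := st_br S he
  have zP := ((T.mem_Z z).1 hz).1
  have zc := ((T.mem_Z z).1 hz).2
  have pP : ∀ c, y c * z ∈ P := fun c => P.mul_mem (st_yP S c) zP
  have p1 : ∀ c, y c * z ≠ 1 := fun c h => z_ne S T hz z1 c (by rw [h, mul_one, S.tt])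
  have hb := (fix_iff S he R (pP b) (p1 b) (pP b)).1 hfix
  obtain ⟨fP, kH, -, P0⟩ := R.ex _ (pP b) (p1 b)
  rw [hb] at P0
  generalize A (y b * z) = f at fP P0
  generalize K (y b * z) = k at kH P0
  have h2 := fun e he ee => st_inv2 S T hz z1 (e := e) he ee
  have e0 : 1 * f⁻¹ = k⁻¹ * k⁻¹ * (k⁻¹⁻¹ * f * k⁻¹) := by
    have h1 : y b * z * (τ * e) * (y b * z)⁻¹ = (τ * e) * f * (τ * e) * k := by
      calc _ = (τ * e)⁻¹ * (τ * e * (y b * z) * (τ * e)) * (y b * z)⁻¹ := by group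
        _ = _ := by rw [P0, R.Wi]; group
    have h4 : (τ * e) * f * ((τ * e) * k * (τ * e)) * f * (k⁻¹ * (τ * e)) = 1 := by
      rw [R.hW (H.inv_mem kH), inv_inv]
      calc _ = ((τ * e) * f * (τ * e) * k) * ((τ * e) * f * (τ * e) * k) := by simp only [mul_assoc]
        _ = y b * z * ((τ * e) * (τ * e)) * (y b * z)⁻¹ := by rw [← h1]; group
        _ = 1 := by rw [R.WW]; group
    rw [R.WH k kH] at h4
    calc _ = f⁻¹ * (τ * e)⁻¹ * 1 * (τ * e)⁻¹ := by rw [mul_one, mul_assoc, ← mul_inv_rev, R.WW]; group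
      _ = k⁻¹ * f * k⁻¹ := by rw [← h4]; group
      _ = _ := by group
  obtain ⟨e1, e2⟩ := st_un1 S H.one_mem (H.mul_mem (H.inv_mem kH) (H.inv_mem kH)) (P.inv_mem fP)
    (S.norm _ (H.inv_mem kH) _ fP) e0
  have eH : e ∈ H := he.elim (fun h => h ▸ H.one_mem) fun h => h ▸ S.tH
  obtain rfl : t = k := ((h2 k kH (by rw [← inv_eq_one, mul_inv_rev, ← e1])).resolve_left fun hk => by
    rw [hk, inv_one, inv_one, one_mul, mul_one] at e2
    have f1 : f = 1 := orderOf_eq_one_iff.1 (Nat.eq_one_of_dvd_coprimes (by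
      rw [S.cardP]; exact Nat.Coprime.pow_right _ (Nat.Coprime.pow_right _ (by norm_num)) : Nat.Coprime 2 (Nat.card P))
      (orderOf_dvd_of_pow_eq_one (by rw [sq, mul_eq_one_iff_eq_inv.2 e2.symm])) (P.orderOf_dvd_natCard fP))
    rw [hk, f1, one_mul, mul_one, mul_eq_left, mul_eq_one_iff_eq_inv] at P0
    exact S.nb (P0 ▸ mem_sup_right (H.inv_mem eH))).symm
  rw [inv_inv, ti] at e2
  have hY := fun c (hc : c ≠ 0) => st_Y S he R hc
  have zt := T.Z_inv z hz
  have z3 := T.Z_cube z hz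
  obtain ⟨-, a1, a2, a3, hA, hν, hμ⟩ := rel_T S R (fun c hc => ⟨(hY c hc).1, (hY c hc).2.1⟩) zP zc zt z1 z3 fP P0
  have tt : ∀ g, t * (t * g * t) * t = g := fun g => by
    calc _ = (t * t) * g * (t * t) := by simp only [mul_assoc]
      _ = g := by rw [S.tt, one_mul, mul_one]
  have tq : t⁻¹ * (y b * z) * t = (y (-b) * z)⁻¹ := by
    rw [ti, ← mul_assoc, st_ty S, mul_assoc, mul_assoc, ← mul_assoc t, zt, st_yneg S, mul_inv_rev, inv_inv,
      zc _ (st_yP S b) |> fun h => (Commute.inv_right h).eq]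
  have hf : B (y (-b) * z) = f := by
    have h := hA b
    rw [a1, eq_comm, inv_eq_iff_eq_inv] at h
    rw [← tt (B _), h, e2, tt]
  have hBP : ∀ x, B (y x * z) ∈ P := fun x => (R.ex _ (pP x) (p1 x)).2.2.1
  have pair : t * B (y 0 * z) * t = B (y 0 * z) * f := by
    have q1 : y b * z * (y (-b) * z) = t⁻¹ * (y 0 * z) * t := by
      rw [st_y0 S, one_mul, ti, zt, st_yneg S, zc _ (st_yP S b), mul_assoc, mul_inv_cancel_left,
        eq_inv_iff_mul_eq_one, ← z3, pow_succ, sq]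
    have q2 : A (y (-b) * z) = y (-b) * z := by
      have h := tq
      rw [ti] at h
      rw [hA, neg_neg, a3, h, inv_inv]
    have q3 : K (y (-b) * z) = t := by
      rw [← (R.inv (pP (-b)) (p1 (-b))).2.1, ← tq, (R.cj (pP b) (p1 b) S.tH).2.1, a2, ti, S.tt, one_mul]
    have n1 : t⁻¹ * (y 0 * z) * t ≠ 1 := fun h => p1 0 (by
      rwa [show t⁻¹ * (y 0 * z) * t = t⁻¹ * (y 0 * z) * t⁻¹⁻¹ by rw [inv_inv], conj_eq_one_iff] at h)
    have h := (R.mul (pP b) (p1 b) (pP (-b)) (p1 (-b)) (q1 ▸ n1) (by rw [a3, q2, q1]; exact n1)).2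
    rwa [a3, q2, q1, q3, hf, (R.cj (pP 0) (p1 0) S.tH).2.2, ti, tt] at h
  have aW : ∀ c, a (y c) = 0 := fun c => (C.zero _ (st_yP S c)).2 ((T.mem_W _).2 ⟨c, 1, Z.one_mem, by rw [mul_one]⟩)
  have at' : ∀ u ∈ P, a (t * u * t) = -a u := fun u hu => by
    have := (C.zero _ (P.mul_mem (st_tP S hu) hu)).2 (T.W_inv u hu)
    rw [C.mul _ (st_tP S hu) _ hu] at this
    exact eq_neg_of_add_eq_zero_left this
  have hX : ∀ s, a (B (y s * z)) = 0 → s = b := fun s h => B_notMem S T he R hz z1 hb ((C.zero _ (hBP s)).1 h)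
  have x0 : a (B (y 0 * z)) = a f := by
    have := congrArg a pair
    rw [at' _ (hBP 0), C.mul _ (hBP 0) _ fP] at this
    linear_combination this + a (B (y 0 * z)) * h3
  have xν : ∀ u, u ≠ 0 → ∃ l : Fˣ, K (y u) = hh l ∧ a (B (y (b + u) * z)) = l * a (B (y (b - u⁻¹) * z)) :=
    fun u hu => by
      obtain ⟨l, hl⟩ := (C.range _).1 (R.ex _ (st_yP S u) (st_yne S hu)).2.1
      refine ⟨l, hl, ?_⟩
      rw [hν u hu, C.mul _ (S.norm _ (R.ex _ (st_yP S u) (st_yne S hu)).2.1 _ (hBP _)) _ (st_yP S _), aW, add_zero,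
        hl, C.cj _ _ (hBP _)]
  have xμ : ∀ u, u ≠ 0 → a (B (y (-b + u⁻¹) * z)) = a f - a (B (y (-b - u) * z)) := fun u hu => by
    rw [hμ u hu, C.mul _ (st_tP S (hBP _)) _ fP, at' _ (hBP _)]; ring
  have ht : hh (-1) = t := (h2 _ ((C.range _).2 ⟨_, rfl⟩) (by rw [← map_mul, neg_mul_neg, one_mul, map_one])).resolve_left
    fun h => by
      have := congrArg Units.val (C.inj (h.trans (map_one hh).symm))
      exact one_ne_zero (α := F) (by simp only [Units.val_neg, Units.val_one] at this; linear_combination this + h3)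
  have hb0 : b ≠ 0 := by
    rintro rfl
    have f0 : a f = 0 := by
      rw [← x0, a3]; exact (C.zero _ (pP 0)).2 ((T.mem_W _).2 ⟨0, z, hz, rfl⟩)
    have hu : ∀ u : F, u ≠ 0 → u ^ 2 = 1 := fun u hu => by
      obtain ⟨l, e3, e4⟩ := xν u hu
      have e5 := xμ (-u) (neg_ne_zero.2 hu)
      simp only [neg_zero, zero_add, zero_sub, neg_neg, inv_neg, f0] at e4 e5
      have n0 : a (B (y (-u⁻¹) * z)) ≠ 0 := fun h => inv_ne_zero hu (neg_eq_zero.1 (hX _ h))
      have e6 : l = -1 := Units.ext (mul_right_cancel₀ n0 (by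
        simp only [Units.val_neg, Units.val_one]; linear_combination -e4 + e5))
      obtain ⟨-, -, k, hk, e7, e8⟩ := hY u hu
      have e9 : k * k = e * t := by
        rw [e3, e6, ht] at e8
        rw [← eq_inv_mul_iff_mul_eq.1 e8, mul_assoc _ t t, S.tt, mul_one]
      have e10 := S.ν_cj _ (H.mul_mem hk hk) 1
      rw [e7, e9, mul_one, mul_assoc, inv_mul_eq_iff_eq_mul] at e10
      have e11 : y 1 * (e * t) = e * t * y 1 := by
        rcases he with h | h
        · rw [h, one_mul, st_ty S]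
        · rw [h, S.tt, one_mul, mul_one]
      exact (st_yinj S (mul_left_cancel (e11.symm.trans e10))).symm
    have := st_fin S
    have h1 : (Set.univ : Set F) ⊆ {0, 1, -1} := fun u _ => by
      by_cases h0 : u = 0
      · simp [h0]
      simpa [h0] using sq_eq_one_iff.1 (hu u h0)
    have h4 := Set.ncard_le_ncard h1
    have h5 : ({0, 1, -1} : Set F).ncard ≤ 3 := (Set.ncard_insert_le _ _).trans (by
      have := Set.ncard_insert_le (1 : F) {-1}; rw [Set.ncard_singleton] at this; omega)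
    rw [Set.ncard_univ, S.card] at h4
    have : 3 ^ 3 ≤ 3 ^ d := Nat.pow_le_pow_right (by norm_num) S.three
    omega
  have nb := neg_ne_zero.2 hb0
  have f0 : a f ≠ 0 := fun h => hb0 (by
    have := hX (-b) (by rw [hf, h])
    linear_combination this + b * h3)
  have bb : b⁻¹ = b := by
    have h := xμ (-b) nb
    rw [sub_self, x0, sub_self, inv_neg] at h
    linear_combination -hX _ h - b * h3
  have b2 : b - (-b)⁻¹ = -b := by rw [inv_neg, bb]; linear_combination b * h3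
  have hK : K (y (-b)) = 1 := by
    obtain ⟨l, e3, e4⟩ := xν (-b) nb
    rw [add_neg_cancel, x0, b2, hf] at e4
    have l1 : l = 1 := Units.ext (mul_right_cancel₀ f0 (by rw [← e4]; simp))
    rw [e3, l1, map_one]
  obtain rfl : e = 1 := he.resolve_right fun h => by
    obtain ⟨-, -, k, hk, -, e8⟩ := hY (-b) nb
    obtain ⟨l, rfl⟩ := (C.range k).1 hk
    rw [hK, eq_comm, inv_mul_eq_one, h, ← ht, ← map_mul] at e8
    exact st_nsq S ⟨l, (congrArg Units.val (C.inj e8)).symm⟩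
  have T0 : B (y 0 * z) = f * y b := by
    have h := hν (-b) nb
    rwa [add_neg_cancel, hK, b2, hf, inv_one, one_mul, mul_one, inv_neg, neg_neg, bb] at h
  have ty : t * (f * y b) * t = f⁻¹ * y b := by
    rw [e2, mul_assoc, mul_assoc, ← st_ty S]; simp only [mul_assoc]
  have wf : y b * f = f * y b * z := by
    have h := hμ (-b) nb
    rw [sub_self, inv_neg, bb, show -b + -b = b by linear_combination -b * h3, a3, T0, ty] at h
    calc _ = f * (f⁻¹ * y b * f) := by group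
      _ = _ := by rw [← h, mul_assoc]
  rw [mul_one] at P0
  refine ⟨b, mul_self_eq_one_iff.1 (by nth_rw 1 [← bb]; exact inv_mul_cancel₀ hb0), z, hz, f, fP,
    fun h => f0 ((C.zero f fP).2 h), z1, P0, zc f fP, e2.symm, ?_, by rw [wf]; group⟩
  rw [T0, ty, mul_assoc f, wf, mul_assoc f (y b), zc _ (st_yP S b), ← mul_assoc, ← mul_assoc, mul_left_inj] at pair
  calc f ^ 3 = f * (f * f * z) * z⁻¹ := by rw [pow_succ, sq]; group
    _ = _ := by rw [← pair]; group

end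

end CL.TN
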